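import Groth.Agent.Lib.DetNorm28.Frame
import Mathlib.RingTheory.LocalRing.Module
import Mathlib.RingTheory.Spectrum.Prime.FreeLocus
import Mathlib.RingTheory.QuasiFinite.Basic
import Mathlib.RingTheory.Localization.Finiteness
import Mathlib.RingTheory.Ideal.GoingUp
import Mathlib.Algebra.Module.FinitePresentation
import Mathlib.RingTheory.Localization.BaseChange

/-!
# Projective modules have frames near each prime of the base
-/

set_option autoImplicit false
set_option linter.style.haveILetI false
universe u v

open TensorProduct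

namespace Groth.Agent.DetNorm28

variable {A : Type u} [CommRing A] {R : Type u} [CommRing R] [Algebra A R] [Module.Finite A R]

theorem finite_maximalSpectrum_localization (q : Ideal A) [q.IsPrime] :
    Finite (MaximalSpectrum (Localization (Algebra.algebraMapSubmonoid R q.primeCompl))) := by
  let Aq := Localization.AtPrime q
  let Rq := Localization (Algebra.algebraMapSubmonoid R q.primeCompl)
  haveI : Algebra.IsIntegral Aq Rq := Algebra.IsIntegral.of_finite Aq Rq
  haveI := (Algebra.QuasiFinite.finite_primesOver (S := Rq) (IsLocalRing.maximalIdeal Aq)).to_subtype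
  refine Finite.of_injective (fun P : MaximalSpectrum Rq => (⟨P.asIdeal, P.isMaximal.isPrime, ⟨?_⟩⟩ :
    (IsLocalRing.maximalIdeal Aq).primesOver Rq)) fun P Q h => MaximalSpectrum.ext (congrArg Subtype.val h)
  haveI := P.isMaximal
  exact (IsLocalRing.eq_maximalIdeal (Ideal.isMaximal_comap_of_isIntegral_of_isMaximal P.asIdeal)).symm

theorem exists_fr {M : Type v} [AddCommGroup M] [Module R M] [Module.Finite R M] [Module.Projective R M]
    (k : ℕ) (hk : ∀ p : PrimeSpectrum R, Module.rankAtStalk M p = k) (q : Ideal A) [q.IsPrime] :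
    ∃ e : Fr A R M (Fin k), e.c ∉ q := by
  classical
  let S := Algebra.algebraMapSubmonoid R q.primeCompl
  let Rq := Localization S
  haveI : Finite (MaximalSpectrum Rq) := finite_maximalSpectrum_localization q
  let g : M →ₗ[R] Rq ⊗[R] M := TensorProduct.mk R Rq M 1
  haveI : IsLocalizedModule S g :=
    (isLocalizedModule_iff_isBaseChange S Rq g).mpr (TensorProduct.isBaseChange R M Rq)
  obtain ⟨b⟩ := Module.nonempty_basis_of_flat_of_finrank_eq Rq (Rq ⊗[R] M) k fun P => by
    letI := Ideal.Quotient.field P.asIdeal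
    have h := Module.rankAtStalk_baseChange (R := Rq) (M := Rq ⊗[R] M) (S := Rq ⧸ P.asIdeal)
      (default : PrimeSpectrum (Rq ⧸ P.asIdeal))
    rw [Module.rankAtStalk_eq_finrank_of_free, Module.rankAtStalk_baseChange, hk] at h
    simpa using h
  choose m s hs using fun i => IsLocalizedModule.surj S g (b i) |>.elim fun x hx => (⟨x.1, x.2, hx⟩ : ∃ (m : M) (s : S), s • b i = g m)
  let w : Fin k → Rq ⊗[R] M := fun i => g (m i)
  let u : Fin k → Rqˣ := fun i => (IsLocalization.map_units Rq (s i)).unit
  let b' := b.unitsSMul u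
  have hb' : ∀ i, b' i = g (m i) := fun i => by
    rw [Module.Basis.unitsSMul_apply, ← hs i, Submonoid.smul_def, ← algebraMap_smul Rq ((s i : S) : R)]
    rfl
  let f : (Fin k → R) →ₗ[R] (Fin k → Rq) := LinearMap.pi fun i => Algebra.linearMap R Rq ∘ₗ LinearMap.proj i
  haveI : Module.FinitePresentation R M := Module.finitePresentation_of_projective R M
  obtain ⟨φ, t, hφ⟩ := Module.FinitePresentation.exists_lift_of_isLocalizedModule S f
    ((b'.equivFun.toLinearMap.restrictScalars R) ∘ₗ g)
  have hφ' : ∀ y i, algebraMap R Rq (φ y i) = algebraMap R Rq (t : R) * b'.equivFun (g y) i := fun y i => by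
    have := congrFun (LinearMap.congr_fun hφ y) i
    simpa [f, Submonoid.smul_def, Algebra.smul_def] using this
  let μ : (Fin k → R) →ₗ[R] M := Fintype.linearCombination R m
  -- both composites agree with `t` after localisation
  have h1 : g ∘ₗ (μ ∘ₗ φ) = g ∘ₗ ((t : R) • LinearMap.id) := by
    refine LinearMap.ext fun y => ?_
    simp only [LinearMap.comp_apply, LinearMap.smul_apply, LinearMap.id_apply, map_smul, μ,
      Fintype.linearCombination_apply, map_sum]
    rw [← b'.sum_equivFun (g y), Finset.smul_sum]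
    refine Finset.sum_congr rfl fun i _ => ?_
    rw [hb', ← algebraMap_smul Rq (φ y i), hφ', mul_smul, algebraMap_smul]
  have h2 : f ∘ₗ (φ ∘ₗ μ) = f ∘ₗ ((t : R) • LinearMap.id) := by
    refine (Pi.basisFun R (Fin k)).ext fun i => funext fun j => ?_
    have : μ (Pi.single i 1) = m i := by simp [μ, Fintype.linearCombination_apply_single]
    simp only [f, LinearMap.comp_apply, Pi.basisFun_apply, LinearMap.pi_apply, LinearMap.proj_apply,
      LinearMap.smul_apply, LinearMap.id_apply, Pi.smul_apply, smul_eq_mul, Algebra.linearMap_apply, map_mul,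
      this, hφ', ← hb', b'.equivFun_self]
    by_cases hij : i = j
    · simp [hij]
    · simp [hij, Ne.symm hij]
  obtain ⟨t₁, ht₁⟩ := Module.Finite.exists_smul_of_comp_eq_of_isLocalizedModule S g _ _ h1
  haveI : IsLocalizedModule S f := inferInstance
  obtain ⟨t₂, ht₂⟩ := Module.Finite.exists_smul_of_comp_eq_of_isLocalizedModule S f _ _ h2
  obtain ⟨a, ha, hat⟩ := t.2
  obtain ⟨a₁, ha₁, hat₁⟩ := t₁.2
  obtain ⟨a₂, ha₂, hat₂⟩ := t₂.2
  refine ⟨⟨m, (((t₁ : R) * (t₂ : R)) • φ), a₁ * a₂ * a, fun i j => ?_, fun y => ?_⟩, ?_⟩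
  · have h := congrFun (LinearMap.congr_fun ht₂ (Pi.single i 1)) j
    simp only [Submonoid.smul_def, LinearMap.smul_apply, LinearMap.comp_apply, LinearMap.id_apply,
      Pi.smul_apply, smul_eq_mul, μ, Fintype.linearCombination_apply_single, one_smul] at h
    rw [LinearMap.smul_apply, Pi.smul_apply, smul_eq_mul, mul_assoc, h, map_mul, map_mul]
    by_cases hij : i = j
    · subst hij; simp [← hat, ← hat₁, ← hat₂]; ring
    · simp [hij, Ne.symm hij]
  · have h := LinearMap.congr_fun ht₁ y
    simp only [Submonoid.smul_def, LinearMap.smul_apply, LinearMap.comp_apply, LinearMap.id_apply, μ,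
      Fintype.linearCombination_apply] at h
    simp only [LinearMap.smul_apply, Pi.smul_apply, smul_eq_mul]
    calc ∑ i, ((t₁ : R) * (t₂ : R) * φ y i) • m i = (t₂ : R) • ((t₁ : R) • ∑ i, φ y i • m i) := by
          rw [Finset.smul_sum, Finset.smul_sum]
          refine Finset.sum_congr rfl fun i _ => ?_
          rw [smul_smul, smul_smul]; congr 1; ring
      _ = _ := by
          rw [h, smul_smul, smul_smul, map_mul, map_mul, ← hat, ← hat₁, ← hat₂]; congr 1; ring
  · exact (Ideal.IsPrime.mul_notMem ‹_› (Ideal.IsPrime.mul_notMem ‹_› ha₁ ha₂) ha)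

end Groth.Agent.DetNorm28
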