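import Mathlib.LinearAlgebra.ExteriorPower.Basic
import Mathlib.LinearAlgebra.Determinant
import Mathlib.LinearAlgebra.TensorPower.Basic
import Mathlib.LinearAlgebra.Matrix.ToLin
import Mathlib.RingTheory.Ideal.Maps

/-!
# Frames up to a scalar, and gluing of rank one modules along them
-/

set_option autoImplicit false
universe u v w w' z z'

open TensorProduct

namespace Groth.Agent.DetNorm28

/-- An alternating map in top degree on a tuple written through a matrix. -/
theorem alternating_matrix {R : Type u} [CommRing R] {M : Type v} [AddCommGroup M] [Module R M]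
    {N : Type w} [AddCommGroup N] [Module R N] {ι : Type z} [Fintype ι] [DecidableEq ι]
    (F : M [⋀^ι]→ₗ[R] N) (x : ι → M) (K : Matrix ι ι R) :
    F (fun i => ∑ j, K i j • x j) = K.det • F x := by
  classical
  let π : (ι → R) →ₗ[R] M := Fintype.linearCombination R x
  let G := F.compLinearMap π
  let b := Pi.basisFun R ι
  have hπb : ∀ i, π (b i) = x i := fun i => by
    simp [π, b, Pi.basisFun_apply, Fintype.linearCombination_apply_single]
  have hG : G = (LinearMap.toSpanSingleton R N (F x)).compAlternatingMap b.det := by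
    refine b.ext_alternating fun v hv => ?_
    let σ := Equiv.ofBijective v (Finite.injective_iff_bijective.mp hv)
    show F (fun i => π (b (σ i))) = b.det (b ∘ σ) • F x
    simp only [hπb]
    rw [b.det.map_perm, b.det_self]
    show F (x ∘ σ) = _
    rw [F.map_perm, smul_assoc, one_smul]
  have := AlternatingMap.congr_fun hG (fun i => K i)
  simp only [G, AlternatingMap.compLinearMap_apply, LinearMap.compAlternatingMap_apply,
    LinearMap.toSpanSingleton_apply] at this
  rw [show b.det (fun i => K i) = K.det from by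
    rw [Module.Basis.det_apply, ← Matrix.det_transpose]; congr 1] at this
  rw [← this]
  simp [π, Fintype.linearCombination_apply]

variable (A : Type u) [CommRing A] (R : Type v) [CommRing R] [Algebra A R]

/-- Vectors with coordinates, inverse to each other up to the scalar `c`. -/
structure Fr (M : Type w) [AddCommGroup M] [Module R M] (ι : Type z) [Fintype ι] [DecidableEq ι] where
  vec : ι → M
  coord : M →ₗ[R] ι → R
  c : A
  coord_vec : ∀ i j, coord (vec i) j = if i = j then algebraMap A R c else 0
  vec_coord : ∀ y, ∑ i, coord y i • vec i = algebraMap A R c • y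

/-- A single vector with a coordinate, up to the scalar `c`. -/
structure Fr1 (M : Type w) [AddCommMonoid M] [Module R M] where
  vec : M
  coord : M →ₗ[R] R
  c : A
  coord_vec : coord vec = algebraMap A R c
  vec_coord : ∀ y, coord y • vec = algebraMap A R c • y

variable {A R} {M : Type w} [AddCommGroup M] [Module R M] {N : Type w'} [AddCommGroup N] [Module R N]
  {ι : Type z} [Fintype ι] [DecidableEq ι]

/-- A single vector as a family. -/
@[simps]
def Fr1.toFr (e : Fr1 A R M) : Fr A R M Unit where
  vec _ := e.vec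
  coord := LinearMap.pi fun _ => e.coord
  c := e.c
  coord_vec i j := by simp [e.coord_vec]
  vec_coord y := by simp [e.vec_coord]

/-- A family indexed by a singleton as a single vector. -/
@[simps]
def Fr.toFr1 (e : Fr A R M (Fin 1)) : Fr1 A R M where
  vec := e.vec 0
  coord := LinearMap.proj 0 ∘ₗ e.coord
  c := e.c
  coord_vec := by simp [e.coord_vec]
  vec_coord y := by simpa using e.vec_coord y

/-- Reindexing. -/
@[simps]
def Fr.reindex (e : Fr A R M ι) {ι' : Type z'} [Fintype ι'] [DecidableEq ι'] (σ : ι ≃ ι') :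
    Fr A R M ι' where
  vec i := e.vec (σ.symm i)
  coord := LinearMap.pi fun i => LinearMap.proj (σ.symm i) ∘ₗ e.coord
  c := e.c
  coord_vec i j := by simp [e.coord_vec]
  vec_coord y := by
    rw [← e.vec_coord y]
    exact σ.symm.sum_comp fun i => e.coord y i • e.vec i

/-- The coordinates of a tuple. -/
def Fr.mat (e : Fr A R M ι) (y : ι → M) : Matrix ι ι R := Matrix.of fun i j => e.coord (y i) j

/-- The determinant of coordinates, as an alternating map. -/
noncomputable def Fr.detAlt (e : Fr A R M ι) : M [⋀^ι]→ₗ[R] R :=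
  (Matrix.detRowAlternating (R := R) (n := ι)).compLinearMap e.coord

theorem Fr.detAlt_apply (e : Fr A R M ι) (y : ι → M) : e.detAlt y = (e.mat y).det := rfl

/-- The top exterior power of a frame. -/
noncomputable def Fr.wedge {n : ℕ} (e : Fr A R M (Fin n)) : Fr1 A R (⋀[R]^n M) where
  vec := exteriorPower.ιMulti R n e.vec
  coord := exteriorPower.alternatingMapLinearEquiv e.detAlt
  c := e.c ^ n
  coord_vec := by
    rw [exteriorPower.alternatingMapLinearEquiv_apply_ιMulti, Fr.detAlt_apply,
      show e.mat e.vec = Matrix.diagonal (fun _ => algebraMap A R e.c) from by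
        ext i j; simp [Fr.mat, e.coord_vec, Matrix.diagonal_apply],
      Matrix.det_diagonal, Finset.prod_const, Finset.card_univ, Fintype.card_fin, map_pow]
  vec_coord y := by
    have h : (LinearMap.toSpanSingleton R _ (exteriorPower.ιMulti R n e.vec)) ∘ₗ
        exteriorPower.alternatingMapLinearEquiv e.detAlt =
        algebraMap A R (e.c ^ n) • LinearMap.id := by
      refine exteriorPower.linearMap_ext (AlternatingMap.ext fun v => ?_)
      simp only [LinearMap.compAlternatingMap_apply, LinearMap.comp_apply,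
        exteriorPower.alternatingMapLinearEquiv_apply_ιMulti, LinearMap.toSpanSingleton_apply,
        Fr.detAlt_apply, LinearMap.smul_apply, LinearMap.id_apply]
      rw [← alternating_matrix (exteriorPower.ιMulti R n) e.vec (e.mat v)]
      simp only [Fr.mat, Matrix.of_apply, e.vec_coord]
      rw [AlternatingMap.map_smul_univ, Finset.prod_const, Finset.card_univ, Fintype.card_fin, map_pow]
    exact LinearMap.congr_fun h y

@[simp] theorem Fr.wedge_c {n : ℕ} (e : Fr A R M (Fin n)) : e.wedge.c = e.c ^ n := rfl

theorem Fr.wedge_coord_ιMulti {n : ℕ} (e : Fr A R M (Fin n)) (y : Fin n → M) :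
    e.wedge.coord (exteriorPower.ιMulti R n y) = (e.mat y).det := by
  simp [Fr.wedge, exteriorPower.alternatingMapLinearEquiv_apply_ιMulti, Fr.detAlt_apply]

section Monoid

variable {M : Type w} [AddCommMonoid M] [Module R M] {N : Type w'} [AddCommMonoid N] [Module R N]

/-- The tensor product of two single vectors. -/
noncomputable def Fr1.tensor (e : Fr1 A R M) (f : Fr1 A R N) : Fr1 A R (M ⊗[R] N) where
  vec := e.vec ⊗ₜ f.vec
  coord := (TensorProduct.lid R R).toLinearMap ∘ₗ TensorProduct.map e.coord f.coord
  c := e.c * f.c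
  coord_vec := by simp [e.coord_vec, f.coord_vec]
  vec_coord y := by
    induction y with
    | zero => simp
    | tmul a b =>
      simp only [LinearMap.comp_apply, LinearEquiv.coe_coe, TensorProduct.map_tmul,
        TensorProduct.lid_tmul, smul_eq_mul, map_mul]
      rw [← TensorProduct.smul_tmul_smul, ← TensorProduct.smul_tmul_smul, e.vec_coord, f.vec_coord]
    | add a b ha hb => rw [map_add, add_smul, ha, hb, smul_add]

@[simp] theorem Fr1.tensor_c (e : Fr1 A R M) (f : Fr1 A R N) : (e.tensor f).c = e.c * f.c := rfl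
theorem Fr1.tensor_vec (e : Fr1 A R M) (f : Fr1 A R N) : (e.tensor f).vec = e.vec ⊗ₜ f.vec := rfl

theorem Fr1.tensor_coord_tmul (e : Fr1 A R M) (f : Fr1 A R N) (a : M) (b : N) :
    (e.tensor f).coord (a ⊗ₜ b) = e.coord a * f.coord b := by simp [Fr1.tensor]

/-- The tensor powers of a single vector. -/
noncomputable def Fr1.power (e : Fr1 A R M) (m : ℕ) : Fr1 A R (TensorPower R m M) where
  vec := PiTensorProduct.tprod R fun _ => e.vec
  coord := PiTensorProduct.lift
    ((MultilinearMap.mkPiAlgebra R (Fin m) R).compLinearMap fun _ => e.coord)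
  c := e.c ^ m
  coord_vec := by simp [e.coord_vec]
  vec_coord y := by
    have h : LinearMap.toSpanSingleton R _ (PiTensorProduct.tprod R fun _ : Fin m => e.vec) ∘ₗ
        PiTensorProduct.lift ((MultilinearMap.mkPiAlgebra R (Fin m) R).compLinearMap fun _ => e.coord) =
        algebraMap A R (e.c ^ m) • LinearMap.id := by
      refine PiTensorProduct.ext (MultilinearMap.ext fun v => ?_)
      simp only [LinearMap.compMultilinearMap_apply, LinearMap.comp_apply, PiTensorProduct.lift.tprod,
        MultilinearMap.compLinearMap_apply, MultilinearMap.mkPiAlgebra_apply,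
        LinearMap.toSpanSingleton_apply, LinearMap.smul_apply, LinearMap.id_apply]
      rw [← MultilinearMap.map_smul_univ]
      simp only [e.vec_coord]
      rw [MultilinearMap.map_smul_univ, Finset.prod_const, Finset.card_univ, Fintype.card_fin, map_pow]
    exact LinearMap.congr_fun h y

@[simp] theorem Fr1.power_c (e : Fr1 A R M) (m : ℕ) : (e.power m).c = e.c ^ m := rfl
theorem Fr1.power_vec (e : Fr1 A R M) (m : ℕ) :
    (e.power m).vec = PiTensorProduct.tprod R fun _ => e.vec := rfl

theorem Fr1.power_coord_tprod (e : Fr1 A R M) (m : ℕ) (y : Fin m → M) :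
    (e.power m).coord (PiTensorProduct.tprod R y) = ∏ i, e.coord (y i) := by simp [Fr1.power]

end Monoid

/-- An equality in a module holds if it holds at every maximal ideal. -/
theorem eq_of_maximal {A : Type u} [CommRing A] {M : Type v} [AddCommMonoid M] [Module A M] (x y : M)
    (h : ∀ q : Ideal A, q.IsMaximal → ∃ s ∉ q, s • x = s • y) : x = y := by
  by_contra hne
  let I : Ideal A := LinearMap.eqLocus (LinearMap.toSpanSingleton A M x) (LinearMap.toSpanSingleton A M y)
  have hI : I ≠ ⊤ := by
    intro ht
    have h1 : (1 : A) ∈ I := ht ▸ Submodule.mem_top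
    exact hne (by simpa [I] using h1)
  obtain ⟨q, hq, hle⟩ := Ideal.exists_le_maximal I hI
  obtain ⟨s, hs, hsx⟩ := h q hq
  exact hs (hle (by simpa [I] using hsx))

theorem exists_linearMap_of_frames {A : Type u} [CommRing A] {P : Type v} [AddCommMonoid P] [Module A P]
    {Q : Type w} [AddCommMonoid Q] [Module A Q] {ι : Type z} (F : ι → Fr1 A A P) (G : ι → Fr1 A A Q)
    (hc : ∀ i, (F i).c = (G i).c)
    (hcov : ∀ q : Ideal A, q.IsMaximal → ∃ i, (F i).c ∉ q)
    (hrel : ∀ i j, ∃ E : A, (∀ q : Ideal A, q.IsMaximal → (F i).c ∉ q → E ∉ q) ∧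
      E * (F i).coord (F j).vec = E * (G i).coord (G j).vec) :
    ∃ Φ : P →ₗ[A] Q, ∀ i, Φ (F i).vec = (G i).vec := by
  have key : ∀ i j, (F i).coord (F j).vec • (G i).vec = (F i).c • (G j).vec := by
    intro i j
    refine eq_of_maximal (A := A) _ _ fun q hq => ?_
    obtain ⟨l, hl⟩ := hcov q hq
    obtain ⟨E₁, hE₁, hi⟩ := hrel l i
    obtain ⟨E₂, hE₂, hj⟩ := hrel l j
    refine ⟨(F l).c * (F l).c * (E₁ * E₂), fun hmem => ?_, ?_⟩
    · rcases hq.isPrime.mem_or_mem hmem with h | h
      · rcases hq.isPrime.mem_or_mem h with h | h <;> exact hl h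
      · rcases hq.isPrime.mem_or_mem h with h | h
        · exact hE₁ q hq hl h
        · exact hE₂ q hq hl h
    have hPj := (F l).vec_coord (F j).vec
    have hPi := (F l).vec_coord (F i).vec
    have hQj := (G l).vec_coord (G j).vec
    have hQi := (G l).vec_coord (G i).vec
    simp only [Algebra.algebraMap_self, RingHom.id_apply] at hPj hPi hQj hQi
    rw [← hc l] at hQj hQi
    set a := (F l).coord (F i).vec
    set b := (F l).coord (F j).vec
    set a' := (G l).coord (G i).vec
    set b' := (G l).coord (G j).vec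
    have hW : (F l).c * (F i).coord (F j).vec = b * (F i).coord (F l).vec := by
      rw [← smul_eq_mul, ← map_smul, ← hPj, map_smul, smul_eq_mul]
    have hW' : a * (F i).coord (F l).vec = (F l).c * (F i).c := by
      have := congrArg (F i).coord hPi
      rw [map_smul, map_smul, smul_eq_mul, smul_eq_mul, (F i).coord_vec] at this
      simpa using this
    have lhs : ((F l).c * (F l).c * (E₁ * E₂)) • ((F i).coord (F j).vec • (G i).vec) =
        (((F l).c * (F i).coord (F j).vec) * (E₁ * a') * E₂) • (G l).vec := by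
      rw [smul_smul, show (F l).c * (F l).c * (E₁ * E₂) * (F i).coord (F j).vec =
        ((F l).c * (F i).coord (F j).vec * E₁ * E₂) * (F l).c by ring, mul_smul, ← hQi, smul_smul]
      congr 1; ring
    have rhs : ((F l).c * (F l).c * (E₁ * E₂)) • ((F i).c • (G j).vec) =
        ((F l).c * (F i).c * E₁ * (E₂ * b')) • (G l).vec := by
      rw [smul_smul, show (F l).c * (F l).c * (E₁ * E₂) * (F i).c =
        ((F l).c * (F i).c * E₁ * E₂) * (F l).c by ring, mul_smul, ← hQj, smul_smul]
      congr 1; ring
    rw [lhs, rhs, hW, ← hi, ← hj, ← hW']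
    congr 1; ring
  have hspan : (1 : A) ∈ Submodule.span A (Set.range fun i => (F i).c) := by
    by_contra h
    obtain ⟨q, hq, hle⟩ := Ideal.exists_le_maximal (Ideal.span (Set.range fun i => (F i).c))
      (fun ht => h (show (1 : A) ∈ Ideal.span _ by rw [ht]; exact Submodule.mem_top))
    obtain ⟨i, hi⟩ := hcov q hq
    exact hi (hle (Ideal.subset_span ⟨i, rfl⟩))
  obtain ⟨a, ha⟩ := Finsupp.mem_span_range_iff_exists_finsupp.mp hspan
  refine ⟨a.sum fun i x => x • (F i).coord.smulRight (G i).vec, fun j => ?_⟩
  rw [Finsupp.sum, LinearMap.sum_apply]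
  simp only [LinearMap.smul_apply, LinearMap.smulRight_apply, key, smul_smul]
  rw [← Finset.sum_smul]
  rw [show (∑ i ∈ a.support, a i * (F i).c) = 1 from ha, one_smul]

theorem nonempty_linearEquiv_of_frames {A : Type u} [CommRing A] {P : Type v} [AddCommMonoid P] [Module A P]
    {Q : Type w} [AddCommMonoid Q] [Module A Q] {ι : Type z} (F : ι → Fr1 A A P) (G : ι → Fr1 A A Q)
    (hc : ∀ i, (F i).c = (G i).c)
    (hcov : ∀ q : Ideal A, q.IsMaximal → ∃ i, (F i).c ∉ q)
    (hrel : ∀ i j, ∃ E : A, (∀ q : Ideal A, q.IsMaximal → (F i).c ∉ q → E ∉ q) ∧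
      E * (F i).coord (F j).vec = E * (G i).coord (G j).vec) :
    Nonempty (P ≃ₗ[A] Q) := by
  obtain ⟨Φ, hΦ⟩ := exists_linearMap_of_frames F G hc hcov hrel
  obtain ⟨Ψ, hΨ⟩ := exists_linearMap_of_frames G F (fun i => (hc i).symm)
    (fun q hq => let ⟨i, hi⟩ := hcov q hq; ⟨i, hc i ▸ hi⟩)
    (fun i j => let ⟨E, hE, h⟩ := hrel i j; ⟨E, fun q hq hi => hE q hq (hc i ▸ hi), h.symm⟩)
  refine ⟨LinearEquiv.ofLinearMap Φ Ψ ?_ ?_⟩
  · refine LinearMap.ext fun y => eq_of_maximal (A := A) _ _ fun q hq => ?_
    obtain ⟨i, hi⟩ := hcov q hq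
    refine ⟨(G i).c, hc i ▸ hi, ?_⟩
    have := (G i).vec_coord y
    simp only [Algebra.algebraMap_self, RingHom.id_apply] at this
    rw [← map_smul, LinearMap.id_apply, ← this, map_smul, LinearMap.comp_apply, hΨ, hΦ]
  · refine LinearMap.ext fun y => eq_of_maximal (A := A) _ _ fun q hq => ?_
    obtain ⟨i, hi⟩ := hcov q hq
    refine ⟨(F i).c, hi, ?_⟩
    have := (F i).vec_coord y
    simp only [Algebra.algebraMap_self, RingHom.id_apply] at this
    rw [← map_smul, LinearMap.id_apply, ← this, map_smul, LinearMap.comp_apply, hΦ, hΨ]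

end Groth.Agent.DetNorm28
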