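import Groth.Agent.Lib.DetNorm28.Prod

/-!
# Determinants over the base of locally free modules over a finite locally free algebra
-/

set_option autoImplicit false
set_option linter.style.haveILetI false
universe u v

open TensorProduct Matrix

namespace Groth.Agent.DetNorm28

variable {A : Type u} [CommRing A] {B : Type u} [CommRing B] [Algebra A B] {n : ℕ}

theorem notMem_pow {q : Ideal A} (hq : q.IsMaximal) {x : A} (h : x ∉ q) (N : ℕ) : x ^ N ∉ q :=
  fun hx => h (hq.isPrime.mem_of_pow_mem N hx)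

theorem exteriorPower_tensor_equiv [Module.Finite A B] [Module.Projective A B]
    (hn : ∀ q : PrimeSpectrum A, Module.rankAtStalk B q = n)
    (M₁ M₂ : Type u) [AddCommGroup M₁] [Module B M₁] [Module A M₁] [IsScalarTower A B M₁]
    [AddCommGroup M₂] [Module B M₂] [Module A M₂] [IsScalarTower A B M₂]
    [Module.Finite B M₁] [Module.Projective B M₁] [Module.Finite B M₂] [Module.Projective B M₂]
    (h₁ : ∀ q : PrimeSpectrum B, Module.rankAtStalk M₁ q = 1)
    (h₂ : ∀ q : PrimeSpectrum B, Module.rankAtStalk M₂ q = 1) :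
    Nonempty ((⋀[A]^n B) ⊗[A] (⋀[A]^n (M₁ ⊗[B] M₂)) ≃ₗ[A] (⋀[A]^n M₁) ⊗[A] (⋀[A]^n M₂)) := by
  let σ : Unit × Fin n ≃ Fin n := Equiv.punitProd _
  refine nonempty_linearEquiv_of_frames
    (ι := Fr A A B (Fin n) × Fr1 A B M₁ × Fr1 A B M₂)
    (fun x => x.1.wedge.tensor ((x.1.prod (x.2.1.tensor x.2.2).toFr).reindex σ).wedge)
    (fun x => ((x.1.prod x.2.1.toFr).reindex σ).wedge.tensor ((x.1.prod x.2.2.toFr).reindex σ).wedge)
    (fun x => ?_) (fun q hq => ?_) fun x y => ?_
  · simp only [Fr1.tensor_c, Fr.wedge_c, Fr.reindex_c, Fr.prod_c, Fr1.toFr_c]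
    ring
  · haveI := hq.isPrime
    obtain ⟨β, hβ⟩ := exists_fr (A := A) (R := A) (M := B) n hn q
    obtain ⟨e₁, he₁⟩ := exists_fr (A := A) (M := M₁) 1 h₁ q
    obtain ⟨e₂, he₂⟩ := exists_fr (A := A) (M := M₂) 1 h₂ q
    refine ⟨(β, e₁.toFr1, e₂.toFr1), ?_⟩
    simp only [Fr1.tensor_c, Fr.wedge_c, Fr.reindex_c, Fr.prod_c, Fr1.toFr_c, Fr.toFr1_c]
    exact hq.isPrime.mul_notMem (notMem_pow hq hβ n)
      (notMem_pow hq (hq.isPrime.mul_notMem hβ (hq.isPrime.mul_notMem he₁ he₂)) n)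
  · obtain ⟨β, e₁, e₂⟩ := x
    obtain ⟨β', e₁', e₂'⟩ := y
    refine ⟨β.c ^ n * β.c ^ n, fun q hq hC => ?_, ?_⟩
    · refine hq.isPrime.mul_notMem ?_ ?_ <;>
      · intro h
        exact hC (Ideal.mul_mem_right _ _ h)
    · let k₁ := (kmat β β'.vec (e₁.coord e₁'.vec)).det
      let k₂ := (kmat β β'.vec (e₂.coord e₂'.vec)).det
      let k₁₂ := (kmat β β'.vec (e₁.coord e₁'.vec * e₂.coord e₂'.vec)).det
      let H := (β.mat β'.vec).det
      have hF : (β.wedge.tensor ((β.prod (e₁.tensor e₂).toFr).reindex σ).wedge).coord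
          (β'.wedge.tensor ((β'.prod (e₁'.tensor e₂').toFr).reindex σ).wedge).vec = H * k₁₂ := by
        rw [Fr1.tensor_vec, Fr1.tensor_coord_tmul]
        congr 1
        · exact β.wedge_coord_ιMulti _
        · refine (Fr.wedge_coord_ιMulti _ _).trans ((det_prod_mat_unit β (e₁.tensor e₂) σ β'.vec
            (e₁'.vec ⊗ₜ[B] e₂'.vec)).trans ?_)
          rw [Fr1.tensor_coord_tmul]
      have hG : (((β.prod e₁.toFr).reindex σ).wedge.tensor ((β.prod e₂.toFr).reindex σ).wedge).coord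
          (((β'.prod e₁'.toFr).reindex σ).wedge.tensor ((β'.prod e₂'.toFr).reindex σ).wedge).vec
            = k₁ * k₂ := by
        rw [Fr1.tensor_vec, Fr1.tensor_coord_tmul]
        congr 1
        · exact (Fr.wedge_coord_ιMulti _ _).trans (det_prod_mat_unit β e₁ σ β'.vec e₁'.vec)
        · exact (Fr.wedge_coord_ιMulti _ _).trans (det_prod_mat_unit β e₂ σ β'.vec e₂'.vec)
      rw [hF, hG]
      have a₁ := pow_mul_det_kmat β β'.vec (e₁.coord e₁'.vec)
      have a₂ := pow_mul_det_kmat β β'.vec (e₂.coord e₂'.vec)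
      have a₁₂ := pow_mul_det_kmat β β'.vec (e₁.coord e₁'.vec * e₂.coord e₂'.vec)
      have a := det_lmat_mul β (e₁.coord e₁'.vec) (e₂.coord e₂'.vec)
      simp only [Fintype.card_fin] at a₁ a₂ a₁₂ a
      calc β.c ^ n * β.c ^ n * (H * k₁₂) = β.c ^ n * H * (β.c ^ n * k₁₂) := by ring
        _ = H * H * (β.c ^ n * (lmat β (e₁.coord e₁'.vec * e₂.coord e₂'.vec)).det) := by rw [a₁₂]; ring
        _ = (H * (lmat β (e₁.coord e₁'.vec)).det) * (H * (lmat β (e₂.coord e₂'.vec)).det) := by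
            rw [← a]; ring
        _ = (β.c ^ n * k₁) * (β.c ^ n * k₂) := by rw [a₁, a₂]
        _ = _ := by ring

theorem exteriorPower_det_equiv [Module.Finite A B] [Module.Projective A B]
    (hn : ∀ q : PrimeSpectrum A, Module.rankAtStalk B q = n)
    (M : Type u) [AddCommGroup M] [Module B M] [Module A M] [IsScalarTower A B M]
    [Module.Finite B M] [Module.Projective B M] (m : ℕ)
    (hM : ∀ q : PrimeSpectrum B, Module.rankAtStalk M q = m + 1) :
    Nonempty ((⋀[A]^(n * (m + 1)) M) ≃ₗ[A]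
      (TensorPower A m (⋀[A]^n B)) ⊗[A] (⋀[A]^n (⋀[B]^(m + 1) M))) := by
  let σ : Fin (m + 1) × Fin n ≃ Fin (n * (m + 1)) := finProdFinEquiv.trans (finCongr (mul_comm _ _))
  let σ₁ : Unit × Fin n ≃ Fin n := Equiv.punitProd _
  refine nonempty_linearEquiv_of_frames
    (ι := Fr A A B (Fin n) × Fr A B M (Fin (m + 1)))
    (fun x => ((x.1.prod x.2).reindex σ).wedge)
    (fun x => (x.1.wedge.power m).tensor ((x.1.prod x.2.wedge.toFr).reindex σ₁).wedge)
    (fun x => ?_) (fun q hq => ?_) fun x y => ?_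
  · simp only [Fr1.tensor_c, Fr1.power_c, Fr.wedge_c, Fr.reindex_c, Fr.prod_c, Fr1.toFr_c,
      mul_pow, ← pow_mul]
    ring
  · haveI := hq.isPrime
    obtain ⟨β, hβ⟩ := exists_fr (A := A) (R := A) (M := B) n hn q
    obtain ⟨e, he⟩ := exists_fr (A := A) (M := M) (m + 1) hM q
    refine ⟨(β, e), ?_⟩
    simp only [Fr.wedge_c, Fr.reindex_c, Fr.prod_c]
    exact notMem_pow hq (hq.isPrime.mul_notMem hβ he) _
  · obtain ⟨β, e⟩ := x
    obtain ⟨β', e'⟩ := y
    let G : Matrix (Fin (m + 1)) (Fin (m + 1)) B := e.mat e'.vec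
    let KU := (Matrix.comp _ _ _ _ A (Matrix.of fun b b' => kmat β β'.vec (G b b'))).det
    let KV := (kmat β β'.vec G.det).det
    let H := (β.mat β'.vec).det
    have hF : ((β.prod e).reindex σ).wedge.coord ((β'.prod e').reindex σ).wedge.vec = KU :=
      (Fr.wedge_coord_ιMulti _ _).trans (det_prod_mat_reindex β e σ β'.vec e'.vec)
    have hG : ((β.wedge.power m).tensor ((β.prod e.wedge.toFr).reindex σ₁).wedge).coord
        ((β'.wedge.power m).tensor ((β'.prod e'.wedge.toFr).reindex σ₁).wedge).vec = H ^ m * KV := by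
      rw [Fr1.tensor_vec, Fr1.tensor_coord_tmul]
      congr 1
      · refine (Fr1.power_coord_tprod _ _ _).trans ?_
        rw [Finset.prod_const, Finset.card_univ, Fintype.card_fin]
        congr 1
        exact β.wedge_coord_ιMulti _
      · refine (Fr.wedge_coord_ιMulti _ _).trans ((det_prod_mat_unit β e.wedge σ₁ β'.vec
          (exteriorPower.ιMulti B (m + 1) e'.vec)).trans ?_)
        rw [Fr.wedge_coord_ιMulti]
    rw [hF, hG]
    obtain ⟨N, hN⟩ := exists_pow_mul_det_comp β G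
    rcases Nat.eq_zero_or_pos n with hn0 | hnpos
    · subst hn0
      refine ⟨1, fun q hq _ h => hq.ne_top ((Ideal.eq_top_iff_one q).mpr h), ?_⟩
      simp only [KU, KV, H, Matrix.det_isEmpty, one_pow, mul_one]
    refine ⟨β.c ^ (N + n + n * (m + 1)), fun q hq hC => notMem_pow hq (fun h => hC ?_) _, ?_⟩
    · simp only [Fr.wedge_c, Fr.reindex_c, Fr.prod_c]
      exact Ideal.pow_mem_of_mem _ (Ideal.mul_mem_right _ _ h) _ (Nat.mul_pos hnpos m.succ_pos)
    · have aU := pow_mul_det_comp_kmat β β'.vec G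
      have aV := pow_mul_det_kmat β β'.vec G.det
      simp only [Fintype.card_fin, Fintype.card_prod] at aU aV hN
      rw [mul_comm n (m + 1)]
      calc β.c ^ (N + n + (m + 1) * n) * KU
          = β.c ^ N * β.c ^ n * (β.c ^ ((m + 1) * n) * KU) := by ring
        _ = H ^ (m + 1) * (β.c ^ N * (β.c ^ n * (Matrix.comp _ _ _ _ A (G.map (lmat β))).det)) := by
            rw [aU]; ring
        _ = β.c ^ N * β.c ^ ((m + 1) * n) * H ^ m * (H * (lmat β G.det).det) := by rw [hN]; ring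
        _ = β.c ^ N * β.c ^ ((m + 1) * n) * H ^ m * (β.c ^ n * KV) := by rw [aV]
        _ = _ := by ring

end Groth.Agent.DetNorm28
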