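import Groth.Agent.Lib.DetNorm28.Exists
import Mathlib.RingTheory.Norm.Transitivity
import Mathlib.LinearAlgebra.Matrix.Kronecker
import Mathlib.RingTheory.Localization.Away.Basic

/-!
# Frames of restrictions of scalars and their determinants
-/

set_option autoImplicit false
universe u v z z'

open TensorProduct Matrix

namespace Groth.Agent.DetNorm28

variable {A : Type u} [CommRing A] {B : Type u} [CommRing B] [Algebra A B]
  {M : Type v} [AddCommGroup M] [Module B M] [Module A M] [IsScalarTower A B M]
  {ι : Type z} [Fintype ι] [DecidableEq ι] {κ : Type z'} [Fintype κ] [DecidableEq κ]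

/-- A frame of `M` over `B` and one of `B` over `A` give one of `M` over `A`. -/
@[simps]
def Fr.prod (β : Fr A A B ι) (e : Fr A B M κ) : Fr A A M (κ × ι) where
  vec p := β.vec p.2 • e.vec p.1
  coord := LinearMap.pi fun p =>
    LinearMap.proj p.2 ∘ₗ β.coord ∘ₗ LinearMap.proj p.1 ∘ₗ e.coord.restrictScalars A
  c := β.c * e.c
  coord_vec p p' := by
    obtain ⟨b, a⟩ := p; obtain ⟨b', a'⟩ := p'
    simp only [LinearMap.pi_apply, LinearMap.comp_apply, LinearMap.restrictScalars_apply,
      LinearMap.proj_apply, map_smul, Pi.smul_apply, e.coord_vec, smul_eq_mul, Algebra.algebraMap_self,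
      RingHom.id_apply, Prod.mk.injEq]
    by_cases hb : b = b'
    · rw [if_pos hb, mul_comm, ← Algebra.smul_def, map_smul, Pi.smul_apply, β.coord_vec]
      by_cases ha : a = a' <;> simp [hb, ha, mul_comm]
    · simp [hb]
  vec_coord y := by
    simp only [LinearMap.pi_apply, LinearMap.comp_apply, LinearMap.restrictScalars_apply,
      LinearMap.proj_apply, Fintype.sum_prod_type, ← smul_assoc, ← Finset.sum_smul, β.vec_coord,
      Algebra.algebraMap_self, RingHom.id_apply]
    simp only [smul_assoc, ← Finset.smul_sum, e.vec_coord, algebraMap_smul, smul_smul]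

/-- The matrix of multiplication by `g` on a frame of `B`. -/
def lmat (β : Fr A A B ι) : B →ₗ[A] Matrix ι ι A :=
  LinearMap.pi fun l => β.coord ∘ₗ LinearMap.mulLeft A (β.vec l)

theorem lmat_apply (β : Fr A A B ι) (g : B) (l j : ι) : lmat β g l j = β.coord (β.vec l * g) j := rfl

/-- The coordinates of a tuple times `g`. -/
def kmat (β : Fr A A B ι) (y : ι → B) (g : B) : Matrix ι ι A := β.mat fun a => y a * g

theorem mat_mul_lmat (β : Fr A A B ι) (y : ι → B) (g : B) :
    β.mat y * lmat β g = β.c • kmat β y g := by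
  refine Matrix.ext fun a j => ?_
  have h : ∑ l, β.coord (y a) l • (β.vec l * g) = β.c • (y a * g) := by
    simp only [← smul_mul_assoc, ← Finset.sum_mul, β.vec_coord, Algebra.algebraMap_self, RingHom.id_apply]
  have := congrFun (congrArg β.coord h) j
  rw [map_sum, Finset.sum_apply] at this
  simpa [Matrix.mul_apply, Fr.mat, kmat, lmat_apply, map_smul] using this

theorem lmat_one (β : Fr A A B ι) : lmat β 1 = β.c • (1 : Matrix ι ι A) := by
  ext l j; simp [lmat_apply, β.coord_vec, Matrix.one_apply]

theorem kmat_vec (β : Fr A A B ι) (g : B) : kmat β β.vec g = lmat β g := rfl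

theorem lmat_mul (β : Fr A A B ι) (g h : B) : lmat β g * lmat β h = β.c • lmat β (g * h) := by
  have := mat_mul_lmat β (fun a => β.vec a * g) h
  simpa [← kmat_vec, kmat, mul_assoc] using this

theorem pow_mul_det_kmat (β : Fr A A B ι) (y : ι → B) (g : B) :
    β.c ^ Fintype.card ι * (kmat β y g).det = (β.mat y).det * (lmat β g).det := by
  rw [← Matrix.det_smul, ← mat_mul_lmat, Matrix.det_mul]

theorem det_lmat_mul (β : Fr A A B ι) (g h : B) :
    (lmat β g).det * (lmat β h).det = β.c ^ Fintype.card ι * (lmat β (g * h)).det := by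
  rw [← Matrix.det_mul, lmat_mul, Matrix.det_smul]

theorem det_prod_mat_reindex {ι' : Type*} [Fintype ι'] [DecidableEq ι'] (β : Fr A A B ι) (e : Fr A B M κ)
    (σ : κ × ι ≃ ι') (y : ι → B) (m : κ → M) :
    ((((β.prod e).reindex σ).mat fun i => y (σ.symm i).2 • m (σ.symm i).1)).det =
      (Matrix.comp κ κ ι ι A (Matrix.of fun b b' => kmat β y (e.mat m b b'))).det := by
  rw [← Matrix.det_submatrix_equiv_self σ.symm (Matrix.comp κ κ ι ι A _)]
  congr 1
  ext i j
  simp [Fr.mat, kmat, Fr.reindex, Fr.prod]

theorem det_prod_mat_unit {ι' : Type*} [Fintype ι'] [DecidableEq ι'] (β : Fr A A B ι) (e : Fr1 A B M)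
    (σ : Unit × ι ≃ ι') (y : ι → B) (m : M) :
    ((((β.prod e.toFr).reindex σ).mat fun i => y (σ.symm i).2 • m)).det =
      (kmat β y (e.coord m)).det := by
  rw [← Matrix.det_submatrix_equiv_self (σ.symm.trans (Equiv.punitProd ι)) (kmat β y (e.coord m))]
  congr 1
  ext i j
  simp [Fr.mat, kmat, Fr.reindex, Fr.prod, Fr1.toFr]

theorem det_comp_diagonal (H : Matrix ι ι A) :
    (Matrix.comp κ κ ι ι A (Matrix.diagonal fun _ => H)).det = H.det ^ Fintype.card κ := by
  have : Matrix.comp κ κ ι ι A (Matrix.diagonal fun _ => H) = Matrix.kronecker (1 : Matrix κ κ A) H := by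
    ext ⟨b, a⟩ ⟨b', a'⟩
    by_cases h : b = b' <;> simp [Matrix.kronecker, Matrix.kroneckerMap_apply, h]
  rw [this]; show (Matrix.kroneckerMap (fun x1 x2 => x1 * x2) (1 : Matrix κ κ A) H).det = _
  rw [Matrix.det_kronecker]; simp

theorem pow_mul_det_comp_kmat (β : Fr A A B ι) (y : ι → B) (G : Matrix κ κ B) :
    β.c ^ Fintype.card (κ × ι) * (Matrix.comp κ κ ι ι A (Matrix.of fun b b' => kmat β y (G b b'))).det =
      (β.mat y).det ^ Fintype.card κ * (Matrix.comp κ κ ι ι A (G.map (lmat β))).det := by
  rw [← Matrix.det_smul, ← det_comp_diagonal, ← Matrix.det_mul]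
  have h : β.c • Matrix.comp κ κ ι ι A (Matrix.of fun b b' => kmat β y (G b b')) =
      Matrix.compRingEquiv κ ι A ((Matrix.diagonal fun _ => β.mat y) * G.map (lmat β)) := by
    refine Matrix.ext fun p p' => ?_
    show β.c * kmat β y (G p.1 p'.1) p.2 p'.2 =
      ((Matrix.diagonal fun _ => β.mat y) * G.map (lmat β) : Matrix κ κ (Matrix ι ι A)) p.1 p'.1 p.2 p'.2
    rw [Matrix.diagonal_mul, Matrix.map_apply, mat_mul_lmat]
    rfl
  rw [h, map_mul]
  rfl

/-- Where `c` is invertible, the scaled multiplication matrices form a representation. -/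
noncomputable def lhom (β : Fr A A B ι) : B →+* Matrix ι ι (Localization.Away β.c) where
  toFun g := Matrix.of fun i j => IsLocalization.Away.invSelf β.c *
    algebraMap A (Localization.Away β.c) (lmat β g i j)
  map_one' := by
    refine Matrix.ext fun i j => ?_
    rw [lmat_one, Matrix.of_apply]
    by_cases h : i = j
    · subst h
      simp [mul_comm (IsLocalization.Away.invSelf β.c), IsLocalization.Away.mul_invSelf]
    · simp [h]
  map_mul' g h := by
    have hu : IsLocalization.Away.invSelf β.c * algebraMap A (Localization.Away β.c) β.c = 1 := by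
      rw [mul_comm]; exact IsLocalization.Away.mul_invSelf _
    refine Matrix.ext fun i j => ?_
    have h1 := congrArg (algebraMap A (Localization.Away β.c)) (congrFun (congrFun (lmat_mul β g h) i) j)
    rw [Matrix.mul_apply, map_sum, Matrix.smul_apply, smul_eq_mul, map_mul] at h1
    simp only [Matrix.mul_apply, Matrix.of_apply]
    set w := IsLocalization.Away.invSelf (S := Localization.Away β.c) β.c
    set f := algebraMap A (Localization.Away β.c)
    calc w * f (lmat β (g * h) i j) = w * (w * f β.c) * f (lmat β (g * h) i j) := by rw [hu, mul_one]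
      _ = w * w * ∑ x, f (lmat β g i x * lmat β h x j) := by rw [h1]; ring
      _ = _ := by
        rw [Finset.mul_sum]
        exact Finset.sum_congr rfl fun x _ => by rw [map_mul]; ring
  map_zero' := Matrix.ext fun i j => by simp [Matrix.of_apply]
  map_add' g h := Matrix.ext fun i j => by simp [Matrix.of_apply, mul_add]

theorem exists_pow_mul_det_comp (β : Fr A A B ι) (G : Matrix κ κ B) :
    ∃ N : ℕ, β.c ^ N * (β.c ^ Fintype.card ι * (Matrix.comp κ κ ι ι A (G.map (lmat β))).det) =
      β.c ^ N * (β.c ^ Fintype.card (κ × ι) * (lmat β G.det).det) := by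
  let f := algebraMap A (Localization.Away β.c)
  let w : Localization.Away β.c := IsLocalization.Away.invSelf β.c
  have hw : f β.c * w = 1 := IsLocalization.Away.mul_invSelf _
  have h := Matrix.det_det G (lhom β)
  have h1 : (lhom β G.det).det = w ^ Fintype.card ι * f (lmat β G.det).det := by
    rw [RingHom.map_det, ← Matrix.det_smul]; congr 1
  have h2 : ((G.map (lhom β)).comp κ κ ι ι _).det =
      w ^ Fintype.card (κ × ι) * f (Matrix.comp κ κ ι ι A (G.map (lmat β))).det := by
    rw [RingHom.map_det, ← Matrix.det_smul]; congr 1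
  rw [h1, h2] at h
  have key : f (β.c ^ Fintype.card ι * (Matrix.comp κ κ ι ι A (G.map (lmat β))).det) =
      f (β.c ^ Fintype.card (κ × ι) * (lmat β G.det).det) := by
    rw [map_mul, map_mul, map_pow, map_pow]
    calc f β.c ^ Fintype.card ι * f (Matrix.comp κ κ ι ι A (G.map (lmat β))).det
        = (f β.c * w) ^ Fintype.card (κ × ι) *
            (f β.c ^ Fintype.card ι * f (Matrix.comp κ κ ι ι A (G.map (lmat β))).det) := by
          rw [hw, one_pow, one_mul]
      _ = f β.c ^ Fintype.card (κ × ι) * f β.c ^ Fintype.card ι *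
            (w ^ Fintype.card (κ × ι) * f (Matrix.comp κ κ ι ι A (G.map (lmat β))).det) := by ring
      _ = (f β.c * w) ^ Fintype.card ι * (f β.c ^ Fintype.card (κ × ι) * f (lmat β G.det).det) := by
          rw [← h]; ring
      _ = _ := by rw [hw, one_pow, one_mul]
  obtain ⟨⟨-, N, rfl⟩, hN⟩ := (IsLocalization.eq_iff_exists (Submonoid.powers β.c) _).mp key
  exact ⟨N, hN⟩

end Groth.Agent.DetNorm28
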